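import Groth.Agent.Lib.Amp36.HomTensor
import Groth.Agent.Lib.RefHull.Reflexive
import Groth.Agent.Lib.ResDescend36.Ample
import Groth.Agent.Lib.CohDelta.FPApprox.Colim

/-!
# Torsionless coherent modules embed into sums of twists
-/

set_option autoImplicit false
set_option linter.style.haveILetI false

universe u

open CategoryTheory Limits AlgebraicGeometry TopologicalSpace Opposite
open Groth.Agent.Lib
open Groth.Agent.Lib.HomSheaf.Basic
open Groth.Agent.Lib.Modules.StalkModule
open Groth.Agent.Lib.Ample.GG (gm memTop GenAt)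

namespace Groth.Agent.Lib.TwistEmbed27.Basic

noncomputable section

variable {X : Scheme.{u}} [IsLocallyNoetherian X] (M : X.Modules) (P : X.Modules)

/-- The linear form on homomorphisms out of the stalk attached to the twisted dual. -/
def Λ (x : X) : (CohB1.tensorMod (_root_.RefHull.dual M) P).presheaf.stalk x →ₗ[X.presheaf.stalk x]
    (M.presheaf.stalk x →ₗ[X.presheaf.stalk x] P.presheaf.stalk x) :=
  (LinearMap.llcomp (X.presheaf.stalk x) _ _ _
      (stalkMapₗ (TensorMod.Basic.leftUnit P).hom x)).comp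
    ((_root_.RefHull.evalStalk M (CohB1.tensorMod (Coh.structureModule X) P) x).comp
      (_root_.RefHull.stalkMapₗ (tens M (Coh.structureModule X) P) x))

/-- The morphism attached to a global section of the twisted dual. -/
def homOf (t : Γ(CohB1.tensorMod (_root_.RefHull.dual M) P, ⊤)) : M ⟶ P :=
  topEquiv.symm ((tens M (Coh.structureModule X) P).app ⊤ t) ≫
    (TensorMod.Basic.leftUnit P).hom

theorem stalkMap_homOf (t : Γ(CohB1.tensorMod (_root_.RefHull.dual M) P, ⊤)) (x : X) :
    stalkMapₗ (homOf M P t) x = Λ M P x (gm (memTop x) t) := by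
  have h1 : stalkMapₗ (topEquiv.symm ((tens M (Coh.structureModule X) P).app ⊤ t)) x =
      _root_.RefHull.evalStalk M (CohB1.tensorMod (Coh.structureModule X) P) x
        (_root_.RefHull.stalkMapₗ (tens M (Coh.structureModule X) P) x
          ((CohB1.tensorMod (_root_.RefHull.dual M) P).presheaf.germ ⊤ x (memTop x) t)) := by
    rw [_root_.RefHull.stalkMapₗ_germ, _root_.RefHull.evalStalk_germ]
    exact Amp36.HomTensor.stalkMap_topEquiv_symm _ x
  rw [homOf, stalkMapₗ_comp, h1]
  rfl

/-- Every functional on the stalks of a coherent module comes from finitely many homomorphisms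
into one power of an ample module. -/
theorem exists_homs {L : X.Modules} (hL : CohB1.IsAmple L) (hM : Coh.IsCoh M) :
    ∃ (q r : ℕ) (φ : Fin r → (M ⟶ CohB1.tensorPow L q)), 1 ≤ r ∧
      ∀ x : X, ∃ lam : (CohB1.tensorPow L q).presheaf.stalk x ≃ₗ[X.presheaf.stalk x] X.presheaf.stalk x,
        Submodule.span (X.presheaf.stalk x)
          (Set.range fun a => lam.toLinearMap.comp (stalkMapₗ (φ a) x)) = ⊤ := by
  haveI : CompactSpace X := hL.2.1
  obtain ⟨n, hn⟩ := Ample.GG.eventually_genAt_twist hL _ (RefHull.Reflexive.isCoh_dual hM)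
  let Q := CohB1.tensorPow L n
  have hQ : PicF.IsInvertible Q := TensorMod.Invertible.isInvertible_tensorPow hL.1 n
  have hcoh : Coh.IsCoh (CohB1.tensorMod (_root_.RefHull.dual M) Q) :=
    RefHull.Tensor.isCoh_tensorMod (RefHull.Reflexive.isCoh_dual hM)
      (Ample.GG.isCoh_of_isInvertible hQ)
  obtain ⟨k, p, hp⟩ := ResDescend36.Ample.exists_epi_freeMod _ hcoh (hn n le_rfl)
  let b : Fin k → Γ(CohB1.tensorMod (_root_.RefHull.dual M) Q, ⊤) := fun i =>
    p.app ⊤ ((Sigma.ι (fun _ : Fin k => Coh.structureModule X) i).app ⊤ (TensorMod.Gen.one X ⊤))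
  refine ⟨n, k + 1, fun a => Fin.lastCases 0 (fun i => homOf M Q (b i)) a, by omega, fun x => ?_⟩
  obtain ⟨e, he⟩ := exists_pair_bijective hQ x
  let Ψ : (Coh.structureModule X).presheaf.stalk x ≃ₗ[X.presheaf.stalk x]
      (CohB1.tensorMod (Coh.structureModule X) Q).presheaf.stalk x :=
    LinearEquiv.ofBijective ((RefHull.Tensor.pair x).flip e) (he _)
  let u := stalkLinearEquiv (TensorMod.Basic.leftUnit Q) x
  let lam : Q.presheaf.stalk x ≃ₗ[X.presheaf.stalk x] X.presheaf.stalk x :=
    u.symm ≪≫ₗ Ψ.symm ≪≫ₗ RefHull.Reflexive.oEquiv x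
  refine ⟨lam, eq_top_iff.2 fun θ _ => ?_⟩
  obtain ⟨v, hv⟩ := (RefHull.Reflexive.dualStalkEquiv hM x).surjective θ
  let v' : (_root_.RefHull.dual M).presheaf.stalk x := v
  let z := RefHull.Tensor.pair x v' e
  have hθ : θ = lam.toLinearMap.comp (Λ M Q x z) := by
    refine LinearMap.ext fun m => ?_
    rw [← hv, RefHull.Reflexive.dualStalkEquiv_apply]
    have h2 : Λ M Q x z m =
        u (Ψ (_root_.RefHull.evalStalk M (Coh.structureModule X) x v' m)) := by
      show stalkMapₗ (TensorMod.Basic.leftUnit Q).hom x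
        (_root_.RefHull.evalStalk M _ x
          (_root_.RefHull.stalkMapₗ (tens M (Coh.structureModule X) Q) x z) m) = _
      rw [evalStalk_tens]
      rfl
    rw [LinearMap.comp_apply, h2]
    show _ = RefHull.Reflexive.oEquiv x (Ψ.symm (u.symm (u (Ψ _))))
    rw [LinearEquiv.symm_apply_apply, LinearEquiv.symm_apply_apply]
  -- the generators
  have hspan : Submodule.span (X.presheaf.stalk x) (Set.range fun i => gm (memTop x) (b i)) = ⊤ := by
    refine eq_top_iff.2 fun y _ => ?_
    obtain ⟨w, rfl⟩ := (epi_iff_stalkMapₗ_surjective p).1 hp x y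
    have hw : w ∈ Submodule.span (X.presheaf.stalk x) (Set.range fun i : Fin k =>
        gm (memTop x) ((Sigma.ι (fun _ : Fin k => Coh.structureModule X) i).app ⊤
          (TensorMod.Gen.one X ⊤))) :=
      (Modules.Free.span_germ_gen (n := k) x).ge trivial
    have h3 := Submodule.apply_mem_span_image_of_mem_span (stalkMapₗ p x) hw
    refine Submodule.span_mono ?_ h3
    rintro _ ⟨_, ⟨i, rfl⟩, rfl⟩
    exact ⟨i, (stalkMapₗ_germ p (memTop x) _).symm⟩
  rw [hθ]
  have hz : z ∈ Submodule.span (X.presheaf.stalk x) (Set.range fun i => gm (memTop x) (b i)) :=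
    hspan ▸ trivial
  have h4 := Submodule.apply_mem_span_image_of_mem_span
    ((LinearMap.llcomp (X.presheaf.stalk x) _ _ _ lam.toLinearMap).comp (Λ M Q x)) hz
  refine Submodule.span_mono ?_ h4
  rintro _ ⟨_, ⟨i, rfl⟩, rfl⟩
  refine ⟨i.castSucc, ?_⟩
  simp only [Fin.lastCases_castSucc]
  rw [stalkMap_homOf]
  rfl

end

end Groth.Agent.Lib.TwistEmbed27.Basic
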