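import Groth.Agent.Lib.TwistEmbed27.Basic

/-!
# The two-step resolution of a reflexive coherent module by sums of twists
-/

set_option autoImplicit false
set_option linter.style.haveILetI false

universe u

open CategoryTheory Limits AlgebraicGeometry TopologicalSpace Opposite
open Groth.Agent.Lib
open Groth.Agent.Lib.Modules.StalkModule

namespace Groth.Agent.Lib.TwistEmbed27.Main

noncomputable section

section Alg

variable {R : Type u} [CommRing R] {E F C : Type u} [AddCommGroup E] [Module R E] [AddCommGroup F]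
  [Module R F] [AddCommGroup C] [Module R C] (Φ : E →ₗ[R] F) {r : ℕ} (π : Fin r → (F →ₗ[R] R))
  (hspan : Submodule.span R (Set.range fun a => (π a).comp Φ) = ⊤)

include hspan in
theorem dualMap_surjective : Function.Surjective Φ.dualMap := by
  rw [← LinearMap.range_eq_top, eq_top_iff, ← hspan, Submodule.span_le]
  rintro _ ⟨a, rfl⟩
  exact ⟨π a, rfl⟩

include hspan in
theorem eq_zero_of_map_eq_zero (e : E) (he : ∀ a, π a (Φ e) = 0) (θ : E →ₗ[R] R) : θ e = 0 := by
  have h : θ ∈ Submodule.span R (Set.range fun a => (π a).comp Φ) := hspan ▸ trivial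
  induction h using Submodule.span_induction with
  | mem θ hθ => obtain ⟨a, rfl⟩ := hθ; exact he a
  | zero => rfl
  | add θ θ' _ _ h h' => rw [LinearMap.add_apply, h, h', add_zero]
  | smul c θ _ h => rw [LinearMap.smul_apply, h, smul_zero]

include hspan in
theorem injective_of_separated (hsep : ∀ e : E, (∀ θ : E →ₗ[R] R, θ e = 0) → e = 0) :
    Function.Injective Φ :=
  (injective_iff_map_eq_zero Φ).2 fun e he =>
    hsep e (eq_zero_of_map_eq_zero Φ π hspan e fun a => by rw [he, map_zero])

include hspan in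
theorem eq_zero_of_dual [Module.IsReflexive R E] (hπ : ∀ v : F, (∀ a, π a v = 0) → v = 0)
    (q : F →ₗ[R] C) (hq : Function.Surjective q) (hqΦ : ∀ e, q (Φ e) = 0)
    (hex : ∀ v, q v = 0 → ∃ e, Φ e = v) (c : C) (hc : ∀ η : C →ₗ[R] R, η c = 0) : c = 0 := by
  obtain ⟨v, rfl⟩ := hq c
  have hv : ∀ η : Module.Dual R F, η ∈ LinearMap.ker Φ.dualMap → η v = 0 := by
    intro η hη
    have hle : LinearMap.ker q ≤ LinearMap.ker η := by
      intro w hw
      obtain ⟨e, rfl⟩ := hex w hw
      exact LinearMap.congr_fun hη e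
    let η' : C →ₗ[R] R := (LinearMap.ker q).liftQ η hle ∘ₗ
      (LinearMap.quotKerEquivOfSurjective q hq).symm.toLinearMap
    have h := hc η'
    have he : (LinearMap.quotKerEquivOfSurjective q hq).symm (q v) = Submodule.Quotient.mk v :=
      (LinearEquiv.symm_apply_eq _).2 rfl
    rwa [LinearMap.comp_apply, LinearEquiv.coe_coe, he, Submodule.liftQ_apply] at h
  let α : Module.Dual R (Module.Dual R E) :=
    (LinearMap.ker Φ.dualMap).liftQ (Module.Dual.eval R F v)
        (fun η hη => LinearMap.mem_ker.2 (hv η hη)) ∘ₗ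
      (LinearMap.quotKerEquivOfSurjective _ (dualMap_surjective Φ π hspan)).symm.toLinearMap
  obtain ⟨e, he⟩ := (Module.bijective_dual_eval R E).2 α
  have key : v = Φ e := sub_eq_zero.1 (hπ _ fun a => by
    have h1 : (LinearMap.quotKerEquivOfSurjective _ (dualMap_surjective Φ π hspan)).symm
        (Φ.dualMap (π a)) = Submodule.Quotient.mk (π a) := (LinearEquiv.symm_apply_eq _).2 rfl
    have h2 : Φ.dualMap (π a) e = π a v := by
      have h3 := LinearMap.congr_fun he (Φ.dualMap (π a))
      rw [LinearMap.comp_apply, LinearEquiv.coe_coe, h1, Submodule.liftQ_apply] at h3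
      exact h3
    rw [map_sub, ← h2]
    exact sub_self _)
  rw [key, hqΦ]

include hspan in
theorem free_of_free [IsLocalRing R] [Module.Free R E] [Module.Finite R E] [Module.Free R F]
    [Module.Finite R F] (q : F →ₗ[R] C) (hq : Function.Surjective q) (hqΦ : ∀ e, q (Φ e) = 0)
    (hex : ∀ v, q v = 0 → ∃ e, Φ e = v) : Module.Free R C := by
  classical
  let b := Module.Free.chooseBasis R E
  choose Θ hΘ using fun i => dualMap_surjective Φ π hspan (b.coord i)
  let s : F →ₗ[R] E := ∑ i, (Θ i).smulRight (b i)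
  have hs : ∀ e, s (Φ e) = e := fun e => by
    simp only [s, LinearMap.coe_sum, Finset.sum_apply, LinearMap.smulRight_apply]
    refine Eq.trans (Finset.sum_congr rfl fun i _ => ?_) (b.sum_repr e)
    exact congrArg (· • b i) (LinearMap.congr_fun (hΘ i) e)
  have hle : LinearMap.ker q ≤ LinearMap.ker (LinearMap.id - Φ ∘ₗ s) := by
    intro w hw
    obtain ⟨e, rfl⟩ := hex w hw
    simp [hs]
  let σ : C →ₗ[R] F := (LinearMap.ker q).liftQ _ hle ∘ₗ
    (LinearMap.quotKerEquivOfSurjective q hq).symm.toLinearMap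
  have hσ : q ∘ₗ σ = LinearMap.id := LinearMap.ext fun c => by
    obtain ⟨v, rfl⟩ := hq c
    have he : (LinearMap.quotKerEquivOfSurjective q hq).symm (q v) = Submodule.Quotient.mk v :=
      (LinearEquiv.symm_apply_eq _).2 rfl
    rw [LinearMap.comp_apply, LinearMap.comp_apply, LinearEquiv.coe_coe, he,
      Submodule.liftQ_apply, LinearMap.sub_apply, map_sub, LinearMap.comp_apply, hqΦ, sub_zero]
    rfl
  haveI : Module.Finite R C := Module.Finite.of_surjective q hq
  haveI : Module.Projective R C := Module.Projective.of_split σ q hσ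
  exact Module.free_of_flat_of_isLocalRing

end Alg

variable {X : Scheme.{u}} [IsLocallyNoetherian X]

/-- The data of an embedding of `M` into a sum of twists. -/
theorem exists_map {L : X.Modules} (hL : CohB1.IsAmple L) (M : X.Modules) (hM : Coh.IsCoh M) :
    ∃ (q r : ℕ) (Φ : M ⟶ ∐ fun _ : Fin r => CohB1.tensorPow L q), 1 ≤ r ∧
      ∀ x : X, ∃ π : Fin r → ((∐ fun _ : Fin r => CohB1.tensorPow L q : X.Modules).presheaf.stalk x →ₗ[
          X.presheaf.stalk x] X.presheaf.stalk x),
        (Submodule.span (X.presheaf.stalk x)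
          (Set.range fun a => (π a).comp (stalkMapₗ Φ x)) = ⊤) ∧
        (∀ v, (∀ a, π a v = 0) → v = 0) ∧
        Module.Free (X.presheaf.stalk x)
          ((∐ fun _ : Fin r => CohB1.tensorPow L q : X.Modules).presheaf.stalk x) ∧
        Module.Finite (X.presheaf.stalk x)
          ((∐ fun _ : Fin r => CohB1.tensorPow L q : X.Modules).presheaf.stalk x) := by
  classical
  obtain ⟨q, r, φ, hr, h⟩ := Basic.exists_homs M hL hM
  let P := fun _ : Fin r => CohB1.tensorPow L q
  let pr : ∀ a, (∐ P) ⟶ CohB1.tensorPow L q := fun a =>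
    Sigma.desc fun b => if b = a then 𝟙 (CohB1.tensorPow L q) else 0
  let Φ : M ⟶ ∐ P := ∑ a, φ a ≫ Sigma.ι P a
  have hpr : ∀ a, Φ ≫ pr a = φ a := fun a => by
    simp only [Φ, Preadditive.sum_comp, Category.assoc, pr, Sigma.ι_desc]
    rw [Finset.sum_eq_single a]
    · rw [if_pos rfl]
      exact Category.comp_id _
    · intro b _ hb
      rw [if_neg hb]
      exact comp_zero
    · simp
  have hid : ∑ a, pr a ≫ Sigma.ι P a = 𝟙 (∐ P) := Sigma.hom_ext _ _ fun b => by
    simp only [Preadditive.comp_sum, pr, Sigma.ι_desc_assoc, Category.comp_id]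
    rw [Finset.sum_eq_single b]
    · simp [P]
    · intro a _ ha
      rw [if_neg (Ne.symm ha)]
      exact zero_comp
    · simp
  refine ⟨q, r, Φ, hr, fun x => ?_⟩
  obtain ⟨lam, hlam⟩ := h x
  have hsum (v : (∐ P : X.Modules).presheaf.stalk x) :
      v = ∑ a, stalkMapₗ (Sigma.ι P a) x (stalkMapₗ (pr a) x v) := by
    have h1 : (stalkModFunctor X x).map (𝟙 (∐ P)) =
        ∑ a, (stalkModFunctor X x).map (pr a ≫ Sigma.ι P a) := by
      rw [← hid, Functor.map_sum]
    have h2 := congr(($h1).hom v)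
    simp only [ModuleCat.hom_sum, LinearMap.coe_sum, Finset.sum_apply] at h2
    refine Eq.trans ?_ (h2.trans (Finset.sum_congr rfl fun a _ => ?_))
    · exact (DFunLike.congr_fun (stalkMapₗ_id (M := ∐ P) x) v).symm
    · exact DFunLike.congr_fun (stalkMapₗ_comp (pr a) (Sigma.ι P a) x) v
  refine ⟨fun a => lam.toLinearMap.comp (stalkMapₗ (pr a) x), ?_, fun v hv => ?_, ?_, ?_⟩
  · have he : (fun a => (lam.toLinearMap.comp (stalkMapₗ (pr a) x)).comp (stalkMapₗ Φ x)) =
        fun a => lam.toLinearMap.comp (stalkMapₗ (φ a) x) := funext fun a => by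
      rw [LinearMap.comp_assoc, ← stalkMapₗ_comp, hpr]
    rw [he, hlam]
  · rw [hsum v]
    exact Finset.sum_eq_zero fun a _ => by rw [lam.map_eq_zero_iff.1 (hv a), map_zero]
  · haveI := (retract x lam pr hsum).1
    haveI := (retract x lam pr hsum).2
    exact Module.free_of_flat_of_isLocalRing
  · exact (retract x lam pr hsum).1
where
  retract {r : ℕ} {P₀ : X.Modules} (x : X)
      (lam : P₀.presheaf.stalk x ≃ₗ[X.presheaf.stalk x] X.presheaf.stalk x)
      (pr : ∀ _ : Fin r, (∐ fun _ : Fin r => P₀) ⟶ P₀)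
      (hsum : ∀ v : (∐ fun _ : Fin r => P₀ : X.Modules).presheaf.stalk x,
        v = ∑ a, stalkMapₗ (Sigma.ι (fun _ : Fin r => P₀) a) x (stalkMapₗ (pr a) x v)) :
      Module.Finite (X.presheaf.stalk x) ((∐ fun _ : Fin r => P₀ : X.Modules).presheaf.stalk x) ∧
      Module.Projective (X.presheaf.stalk x) ((∐ fun _ : Fin r => P₀ : X.Modules).presheaf.stalk x) := by
    let f : (Fin r → X.presheaf.stalk x) →ₗ[X.presheaf.stalk x]
        (∐ fun _ : Fin r => P₀ : X.Modules).presheaf.stalk x :=
      ∑ a, (stalkMapₗ (Sigma.ι (fun _ : Fin r => P₀) a) x ∘ₗ lam.symm.toLinearMap) ∘ₗ LinearMap.proj a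
    let g := LinearMap.pi fun a => lam.toLinearMap ∘ₗ stalkMapₗ (pr a) x
    have hfg : f ∘ₗ g = LinearMap.id := LinearMap.ext fun v => by
      refine Eq.trans ?_ (hsum v).symm
      simp [f, g]
    exact ⟨Module.Finite.of_surjective f fun v => ⟨g v, LinearMap.congr_fun hfg v⟩,
      Module.Projective.of_split g f hfg⟩

end

end Groth.Agent.Lib.TwistEmbed27.Main
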